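import Groth.Prelude.Def_Pic
import Mathlib.AlgebraicGeometry.Morphisms.Flat
import Mathlib.Topology.Sheaves.SheafCondition.Sites

/-!
# Constants remain the only functions after base change from a field
-/

set_option autoImplicit false

universe u

open CategoryTheory CategoryTheory.Limits AlgebraicGeometry Opposite

noncomputable section

namespace Groth.Agent.Lib.PicGal.Const

theorem isIso_app_affine {k : Type u} [Field k] {X : Scheme.{u}} (f : X ⟶ Spec (CommRingCat.of k))
    [CompactSpace X] [QuasiSeparatedSpace X] [IsIso f.appTop] (T : Over (Spec (CommRingCat.of k)))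
    (U : T.left.Opens) (hU : IsAffineOpen U) : IsIso ((PicF.XTproj f T).app U) := by
  have h := (isIso_pushoutSection_iff _ _ _ _).1
    (isIso_pushoutSection_of_isQuasiSeparated_of_flat_right (IsPullback.of_hasPullback f T.hom)
      (US := ⊤) (UT := U) (UX := ⊤) (UY := PicF.XTproj f T ⁻¹ᵁ U) le_top le_top (by simp)
      (isAffineOpen_top _) hU (by simpa using isCompact_univ)
      (by simpa using isQuasiSeparated_univ_iff.2 ‹QuasiSeparatedSpace X›))
  have hi : IsIso (f.appLE ⊤ ⊤ le_top) := by
    have e : f.appLE ⊤ ⊤ le_top = f.appTop := (Scheme.Hom.app_eq_appLE f).symm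
    rw [e]; infer_instance
  rw [Scheme.Hom.app_eq_appLE]
  exact h.isIso_inr_of_isIso hi

/-- If `f` has only constant global functions, so do all its base changes, on every open. -/
theorem isIso_app {k : Type u} [Field k] {X : Scheme.{u}} (f : X ⟶ Spec (CommRingCat.of k))
    [CompactSpace X] [QuasiSeparatedSpace X] [IsIso f.appTop] (T : Over (Spec (CommRingCat.of k)))
    (U : T.left.Opens) : IsIso ((PicF.XTproj f T).app U) := by
  let φ : T.left.sheaf ⟶ (TopCat.Sheaf.pushforward _ (PicF.XTproj f T).base).obj (PicF.XT f T).sheaf :=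
    ⟨(PicF.XTproj f T).c⟩
  have hB : TopologicalSpace.Opens.IsBasis
      (Set.range (fun V : T.left.affineOpens => (V : T.left.Opens))) := by
    rw [Subtype.range_coe]
    exact T.left.isBasis_affineOpens
  haveI := TopCat.Sheaf.isIso_iff_isIso_basis hB (φ := φ)
    (fun V => isIso_app_affine f T V.1 V.2)
  have h2 : IsIso φ.hom := (TopCat.Sheaf.forget CommRingCat T.left).map_isIso φ
  exact inferInstanceAs (IsIso (φ.hom.app (op U)))

end Groth.Agent.Lib.PicGal.Const
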