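import Groth.Prelude.Def_PicF2
import Groth.Prelude.Def_AbDual
import Groth.Agent.S8230
import Groth.Agent.S12403
import Groth.Agent.H69.PicStage.Main
import Groth.Agent.Lib.PicFppf.Classes
import Groth.Agent.Lib.PicGal.Const
import Mathlib.FieldTheory.Normal.Closure
import Mathlib.FieldTheory.Galois.Basic
import Mathlib.RingTheory.Etale.Field

/-!
# Galois descent of classes of invertible modules
-/

set_option autoImplicit false
set_option linter.style.haveILetI false

universe u

open CategoryTheory CategoryTheory.Limits AlgebraicGeometry Opposite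

noncomputable section

namespace Groth.Agent.Lib.PicGal.Main

open Groth.Agent.Lib.PicFppf.Classes

local instance (Y : Scheme.{u}) : PicGrp.Law Y := Groth.Agent.Lib.TensorMod.Invertible.law Y

variable {k : Type u} [Field k] {X : Scheme.{u}} (f : X ⟶ Spec (CommRingCat.of k))

/-- The structure map of the spectrum of an algebra. -/
abbrev str (A : Type u) [CommRing A] [Algebra k A] :
    Spec (CommRingCat.of A) ⟶ Spec (CommRingCat.of k) :=
  Spec.map (CommRingCat.ofHom (algebraMap k A))

variable {A B C : Type u} [CommRing A] [CommRing B] [CommRing C] [Algebra k A] [Algebra k B]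
  [Algebra k C]

theorem spec_str (φ : A →ₐ[k] B) : Spec.map (CommRingCat.ofHom φ.toRingHom) ≫ str (k := k) A = str (k := k) B := by
  rw [str, str, ← Spec.map_comp, ← CommRingCat.ofHom_comp]
  congr 2
  exact φ.comp_algebraMap

/-- The map of base changes. -/
def mapF (φ : A →ₐ[k] B) : pullback f (str B) ⟶ pullback f (str A) :=
  pullback.lift (pullback.fst _ _) (pullback.snd _ _ ≫ Spec.map (CommRingCat.ofHom φ.toRingHom))
    (by rw [Category.assoc, spec_str, pullback.condition])

@[reassoc]
theorem mapF_fst (φ : A →ₐ[k] B) : mapF f φ ≫ pullback.fst f (str A) = pullback.fst f (str B) :=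
  pullback.lift_fst _ _ _

@[reassoc]
theorem mapF_snd (φ : A →ₐ[k] B) : mapF f φ ≫ pullback.snd f (str A) =
    pullback.snd f (str B) ≫ Spec.map (CommRingCat.ofHom φ.toRingHom) :=
  pullback.lift_snd _ _ _

theorem mapF_comp (φ : A →ₐ[k] B) (ψ : B →ₐ[k] C) :
    mapF f ψ ≫ mapF f φ = mapF f (ψ.comp φ) := by
  apply pullback.hom_ext
  · rw [Category.assoc, mapF_fst, mapF_fst, mapF_fst]
  · rw [Category.assoc, mapF_snd, mapF_snd_assoc, mapF_snd, ← Spec.map_comp]
    rfl

theorem twistAut_eq {K : Type u} [Field K] [Algebra k K] (σ : K ≃ₐ[k] K) :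
    PicF2.twistAut f σ = mapF f σ.toAlgHom := by
  apply pullback.hom_ext
  · rw [mapF_fst]
    exact (pullback.lift_fst _ _ _).trans (Category.comp_id _)
  · rw [mapF_snd]
    exact pullback.lift_snd _ _ _

/-- Classes of invertible modules on the spectrum of a field are trivial. -/
theorem picSet_eq_one {Y : Scheme.{u}} [Subsingleton Y] [Nonempty Y] (c : PicLoc.PicSet Y) :
    c = 1 := by
  obtain ⟨L, hL, rfl⟩ := PicGrp.exists_eq_cls c
  refine (PicGrp.cls_eq_one_iff hL).2 ?_
  obtain ⟨y⟩ := ‹Nonempty Y›
  obtain ⟨U, hy, hU⟩ := hL y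
  have hUtop : U = ⊤ := TopologicalSpace.Opens.ext (Set.eq_univ_of_forall fun z => by
    rwa [Subsingleton.elim z y])
  subst hUtop
  obtain ⟨e⟩ := hU
  let θ := Y.topIso
  have hθ : θ.inv ≫ (⊤ : Y.Opens).ι = 𝟙 Y := θ.inv_hom_id
  exact ⟨((Scheme.Modules.pullbackId Y).app L).symm ≪≫
    ((Scheme.Modules.pullbackCongr hθ).app L).symm ≪≫
    ((Scheme.Modules.pullbackComp θ.inv (⊤ : Y.Opens).ι).app L).symm ≪≫
    (Scheme.Modules.pullback θ.inv).mapIso
      (((Scheme.Modules.restrictFunctorIsoPullback (⊤ : Y.Opens).ι).app L).symm ≪≫ e) ≪≫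
    PicLoc.pullbackStructureIso θ.inv⟩

section Descent

variable [CompactSpace X] [QuasiSeparatedSpace X] [IsIso f.appTop]
  (x : Spec (CommRingCat.of k) ⟶ X) (hx : x ≫ f = 𝟙 _)

theorem ha (T : Over (Spec (CommRingCat.of k))) (U : T.left.Opens) :
    IsIso ((PicF.XTproj f T).app U) := Const.isIso_app f T U

include hx in
/-- Pullback along a finite extension of fields is injective. -/
theorem pc_injective_finite {L M : Type u} [Field L] [Field M] [Algebra k L] [Algebra k M]
    [FiniteDimensional k M] (φ : L →ₐ[k] M) : Function.Injective (pc (mapF f φ)) := by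
  intro c c' h
  let T : Over (Spec (CommRingCat.of k)) := Over.mk (str L)
  haveI : Subsingleton T.left := inferInstanceAs (Subsingleton (PrimeSpectrum L))
  haveI : Nonempty T.left := inferInstanceAs (Nonempty (PrimeSpectrum L))
  let v : Spec (CommRingCat.of M) ⟶ T.left := Spec.map (CommRingCat.ofHom φ.toRingHom)
  refine ext_of_local f x hx (ha f) T (picSet_eq_one _) (picSet_eq_one _) fun t => ?_
  letI : Algebra L M := φ.toRingHom.toAlgebra
  haveI : IsScalarTower k L M := IsScalarTower.of_algebraMap_eq fun a => (φ.commutes a).symm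
  haveI : Module.Finite L M := Module.Finite.of_restrictScalars_finite k L M
  have hv : LocallyOfFinitePresentation v :=
    (HasRingHomProperty.Spec_iff (P := @LocallyOfFinitePresentation)).2
      (RingHom.finitePresentation_algebraMap.2 (Algebra.FinitePresentation.of_finiteType.1
        inferInstance))
  have hv' : Flat v := (HasRingHomProperty.Spec_iff (P := @Flat)).2
    (RingHom.flat_algebraMap_iff.2 inferInstance)
  refine ⟨Spec (CommRingCat.of M), v, hv', hv,
    ⟨(default : PrimeSpectrum M), Subsingleton.elim _ _⟩, ?_⟩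
  let b : PicF.XT f (AbDual.ovr T v) ⟶ pullback f (str M) :=
    pullback.lift (pullback.fst _ _) (pullback.snd _ _)
      (by rw [pullback.condition]; exact congrArg (pullback.snd _ _ ≫ ·) (spec_str φ))
  have hb : PicF.XTmap f (AbDual.ovrHom T v) = b ≫ mapF f φ := by
    apply pullback.hom_ext
    · rw [XTmap_fst, Category.assoc]
      exact ((congrArg (b ≫ ·) (mapF_fst f φ)).trans (pullback.lift_fst _ _ _)).symm
    · rw [XTmap_snd, Category.assoc]
      refine ((congrArg (b ≫ ·) (mapF_snd f φ)).trans ?_).symm
      rw [← Category.assoc, pullback.lift_snd]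
      rfl
  refine (pc_congr hb c).trans (Eq.trans ?_ (pc_congr hb c').symm)
  rw [pc_comp, pc_comp, h]

include hx in
/-- Descent along a finite Galois extension. -/
theorem exists_descend {L : Type u} [Field L] [Algebra k L] [FiniteDimensional k L] [IsGalois k L]
    (c : PicLoc.PicSet (pullback f (str L)))
    (hfix : ∀ σ : L ≃ₐ[k] L, pc (mapF f σ.toAlgHom) c = c) :
    ∃ c₀ : PicLoc.PicSet X, pc (pullback.fst f (str L)) c₀ = c := by
  let T₀ : Over (Spec (CommRingCat.of k)) := Over.mk (𝟙 _)
  let v : Spec (CommRingCat.of L) ⟶ T₀.left := str L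
  haveI : Algebra.FormallyEtale k L := Algebra.FormallyEtale.of_isSeparable k L
  haveI : Algebra.FinitePresentation k L :=
    Algebra.FinitePresentation.of_finiteType.1 inferInstance
  haveI : Algebra.Etale k L := ⟨inferInstance, inferInstance⟩
  haveI hvE : Etale v := (HasRingHomProperty.Spec_iff (P := @Etale)).2
    (RingHom.etale_algebraMap.2 (inferInstance : Algebra.Etale k L))
  haveI : Flat v := inferInstance
  haveI : LocallyOfFinitePresentation v := inferInstance
  haveI : Surjective v := ⟨fun t => ⟨(default : PrimeSpectrum L),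
    @Subsingleton.elim (PrimeSpectrum k) inferInstance _ t⟩⟩
  let T₁ := AbDual.ovr T₀ v
  haveI : Subsingleton T₁.left := inferInstanceAs (Subsingleton (PrimeSpectrum L))
  haveI : Nonempty T₁.left := inferInstanceAs (Nonempty (PrimeSpectrum L))
  have hT₁ : T₁.hom = str L := Category.comp_id _
  let toL : PicF.XT f T₁ ⟶ pullback f (str L) :=
    pullback.lift (pullback.fst _ _) (pullback.snd _ _)
      (pullback.condition.trans (congrArg (pullback.snd _ _ ≫ ·) hT₁))
  let fromL : pullback f (str L) ⟶ PicF.XT f T₁ :=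
    pullback.lift (pullback.fst _ _) (pullback.snd _ _)
      (pullback.condition.trans (congrArg (pullback.snd _ _ ≫ ·) hT₁.symm))
  let c₁ := pc toL c
  let g₁ : AbDual.ovr T₁ (pullback.fst v v) ⟶ T₁ := AbDual.ovrHom T₁ (pullback.fst v v)
  let g₂ : AbDual.ovr T₁ (pullback.fst v v) ⟶ T₁ :=
    Over.homMk (pullback.snd v v) (pullback.condition_assoc T₀.hom).symm
  have hglue : pc (PicF.XTmap f g₁) c₁ = pc (PicF.XTmap f g₂) c₁ := by
    refine ext_of_local f x hx (ha f) _ ?_ ?_ fun t => ?_
    · rw [rig_map, picSet_eq_one (rig f x hx T₁ c₁), map_one]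
    · rw [rig_map, picSet_eq_one (rig f x hx T₁ c₁), map_one]
    let W := pullback v v
    let κ := W.residueField t
    let φ : L →+* κ := (Spec.preimage (W.fromSpecResidueField t ≫ pullback.fst v v)).hom
    let ψ : L →+* κ := (Spec.preimage (W.fromSpecResidueField t ≫ pullback.snd v v)).hom
    have hφ : Spec.map (CommRingCat.ofHom φ) = W.fromSpecResidueField t ≫ pullback.fst v v :=
      Spec.map_preimage _
    have hψ : Spec.map (CommRingCat.ofHom ψ) = W.fromSpecResidueField t ≫ pullback.snd v v :=
      Spec.map_preimage _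
    letI : Algebra k κ := (φ.comp (algebraMap k L)).toAlgebra
    letI : Algebra L κ := φ.toAlgebra
    haveI : IsScalarTower k L κ := IsScalarTower.of_algebraMap_eq fun _ => rfl
    have hk : ψ.comp (algebraMap k L) = φ.comp (algebraMap k L) := by
      have : CommRingCat.ofHom (algebraMap k L) ≫ CommRingCat.ofHom ψ =
          CommRingCat.ofHom (algebraMap k L) ≫ CommRingCat.ofHom φ := Spec.map_injective (by
        rw [Spec.map_comp, Spec.map_comp, hφ, hψ, Category.assoc, Category.assoc]
        exact congrArg (W.fromSpecResidueField t ≫ ·) pullback.condition.symm)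
      exact congrArg CommRingCat.Hom.hom this
    let ψ' : L →ₐ[k] κ := { ψ with commutes' := fun a => RingHom.congr_fun hk a }
    let σ : L ≃ₐ[k] L := ψ'.restrictNormal' L
    have hσ : ∀ a, φ (σ a) = ψ a := fun a => ψ'.restrictNormal_commutes L a
    let s : Spec (CommRingCat.of L) ⟶ (AbDual.ovr T₁ (pullback.fst v v)).left :=
      pullback.lift (𝟙 _) (Spec.map (CommRingCat.ofHom σ.toAlgHom.toRingHom))
        (by rw [Category.id_comp]; exact (spec_str σ.toAlgHom).symm)
    haveI : Etale (pullback.fst v v) := MorphismProperty.pullback_fst _ _ hvE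
    haveI : Etale (s ≫ pullback.fst v v) := by
      rw [show s ≫ pullback.fst v v = 𝟙 _ from pullback.lift_fst _ _ _]
      infer_instance
    haveI : Etale s := Etale.of_comp s (pullback.fst v v)
    refine ⟨Spec (CommRingCat.of L), s, inferInstance, inferInstance, ?_, ?_⟩
    · have hst : W.fromSpecResidueField t = Spec.map (CommRingCat.ofHom φ) ≫ s := by
        apply pullback.hom_ext
        · rw [Category.assoc, show s ≫ pullback.fst v v = 𝟙 _ from pullback.lift_fst _ _ _,
            Category.comp_id, hφ]
        · rw [Category.assoc, show s ≫ pullback.snd v v = _ from pullback.lift_snd _ _ _,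
            ← Spec.map_comp, ← hψ]
          exact congrArg Spec.map (CommRingCat.hom_ext (RingHom.ext fun a => (hσ a).symm))
      refine ⟨Spec.map (CommRingCat.ofHom φ) default, ?_⟩
      rw [← Scheme.Hom.comp_apply, ← hst]
      exact Scheme.fromSpecResidueField_apply _ _
    let T₃ := AbDual.ovr (AbDual.ovr T₁ (pullback.fst v v)) s
    let a : PicF.XT f T₃ ⟶ pullback f (str L) :=
      pullback.lift (pullback.fst _ _) (pullback.snd _ _) (by
        rw [pullback.condition]
        refine congrArg (pullback.snd _ _ ≫ ·) ?_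
        change s ≫ pullback.fst v v ≫ T₁.hom = str L
        rw [← Category.assoc, show s ≫ pullback.fst v v = 𝟙 _ from pullback.lift_fst _ _ _,
          Category.id_comp, hT₁])
    let p := PicF.XTmap f (AbDual.ovrHom (AbDual.ovr T₁ (pullback.fst v v)) s)
    have h1 : (p ≫ PicF.XTmap f g₁) ≫ toL = a := by
      apply pullback.hom_ext
      · simp only [p, a, toL, Category.assoc, pullback.lift_fst]
        rw [XTmap_fst, XTmap_fst]
      · simp only [p, a, toL, Category.assoc, pullback.lift_snd]
        rw [XTmap_snd, ← Category.assoc, XTmap_snd, Category.assoc]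
        exact (congrArg (pullback.snd _ _ ≫ ·) (pullback.lift_fst _ _ _)).trans (Category.comp_id _)
    have h2 : (p ≫ PicF.XTmap f g₂) ≫ toL = a ≫ mapF f σ.toAlgHom := by
      apply pullback.hom_ext
      · simp only [p, a, toL, Category.assoc, pullback.lift_fst, mapF_fst]
        rw [XTmap_fst, XTmap_fst]
      · simp only [p, a, toL, Category.assoc, pullback.lift_snd, mapF_snd]
        rw [XTmap_snd, ← Category.assoc, XTmap_snd, Category.assoc, ← Category.assoc a,
          show a ≫ pullback.snd f (str L) = _ from pullback.lift_snd _ _ _]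
        exact congrArg (pullback.snd _ _ ≫ ·) (pullback.lift_snd _ _ _)
    change pc p (pc (PicF.XTmap f g₁) (pc toL c)) = pc p (pc (PicF.XTmap f g₂) (pc toL c))
    rw [← pc_comp, ← pc_comp, ← pc_comp, ← pc_comp, pc_congr h1, pc_congr h2, pc_comp, hfix]
  obtain ⟨c₀, hc₀, -⟩ := Groth.Agent.S12403.result f x hx (ha f) T₀ v
    (toRig f x hx T₁ c₁ (picSet_eq_one _)) (congrArg Subtype.val hglue)
  let a₀ : X ⟶ PicF.XT f T₀ := pullback.lift (𝟙 X) f (by simp [T₀])
  refine ⟨pc a₀ ⟨c₀.1, c₀.2.1⟩, ?_⟩
  have e : pullback.fst f (str L) ≫ a₀ = fromL ≫ PicF.XTmap f (AbDual.ovrHom T₀ v) := by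
    apply pullback.hom_ext
    · rw [Category.assoc, Category.assoc, XTmap_fst]
      simp only [a₀, fromL, pullback.lift_fst, Category.comp_id]
    · rw [Category.assoc, Category.assoc, XTmap_snd]
      simp only [a₀, fromL, pullback.lift_snd, pullback.lift_snd_assoc]
      exact pullback.condition
  have e2 : fromL ≫ toL = 𝟙 _ := by
    apply pullback.hom_ext
    · rw [Category.assoc, Category.id_comp]
      exact (congrArg (fromL ≫ ·) (pullback.lift_fst _ _ _)).trans (pullback.lift_fst _ _ _)
    · rw [Category.assoc, Category.id_comp]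
      exact (congrArg (fromL ≫ ·) (pullback.lift_snd _ _ _)).trans (pullback.lift_snd _ _ _)
  rw [← pc_comp, pc_congr e, pc_comp,
    show pc (PicF.XTmap f (AbDual.ovrHom T₀ v)) ⟨c₀.1, c₀.2.1⟩ = c₁ from Subtype.ext hc₀,
    ← pc_comp, pc_congr e2, pc_id]

open Groth.Agent.S8230 in
include hx in
/-- Galois descent of invariant classes. -/
theorem exists_descend_galois (K : Type u) [Field K] [Algebra k K] [IsGalois k K]
    (c : PicLoc.PicSet (pullback f (str K)))
    (hfix : ∀ σ : K ≃ₐ[k] K, pc (mapF f σ.toAlgHom) c = c) :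
    ∃ c₀ : PicLoc.PicSet X, pc (pullback.fst f (str K)) c₀ = c := by
  haveI : IsCofiltered (Fin' k K)ᵒᵖ := isCofiltered_op_of_isFiltered _
  haveI : QuasiCompact f := (quasiCompact_iff_compactSpace f).2 inferInstance
  haveI : QuasiSeparated f := (quasiSeparated_iff_quasiSeparatedSpace f).2 inferInstance
  haveI : ∀ i, CompactSpace ((diag (K := K) f).obj i) := fun i =>
    have h : CompactSpace (pullback f (str i.unop.1) : Scheme.{u}) :=
      QuasiCompact.compactSpace_of_compactSpace (pullback.snd f (str i.unop.1))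
    h
  haveI : ∀ i, QuasiSeparatedSpace ((diag (K := K) f).obj i) := fun i =>
    have h : QuasiSeparatedSpace (pullback f (str i.unop.1) : Scheme.{u}) :=
      quasiSeparatedSpace_of_quasiSeparated (pullback.snd f (str i.unop.1))
    h
  obtain ⟨hcol⟩ := H69.PicStage.Main.isColimit_invCl (diag (K := K) f) (cone (K := K) f) (isLimit f)
  obtain ⟨i, y, hy⟩ := Types.jointly_surjective _ hcol c
  let L : IntermediateField k K := IntermediateField.normalClosure k i.unop.unop.1 K
  haveI : FiniteDimensional k i.unop.unop.1 := i.unop.unop.2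
  haveI : FiniteDimensional k L := inferInstanceAs
    (FiniteDimensional k (IntermediateField.normalClosure k i.unop.unop.1 K))
  haveI : IsGalois k L := inferInstanceAs
    (IsGalois k (IntermediateField.normalClosure k i.unop.unop.1 K))
  let incl : i.unop.unop.1 →ₐ[k] L :=
    IntermediateField.inclusion (IntermediateField.le_normalClosure i.unop.unop.1)
  let cL : PicLoc.PicSet (pullback f (str L)) := pc (mapF f incl) y
  have hπ : ∀ j : (Fin' k K)ᵒᵖ, (cone (K := K) f).π.app j = mapF f j.unop.1.val := fun j => by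
    apply pullback.hom_ext
    · refine Eq.trans ?_ (mapF_fst f _).symm
      exact (pullback.lift_fst _ _ _).trans (Category.comp_id _)
    · refine Eq.trans ?_ (mapF_snd f _).symm
      exact pullback.lift_snd _ _ _
  have hc : pc (mapF f L.val) cL = c := by
    rw [← hy]
    change pc (mapF f L.val) (pc (mapF f incl) y) = pc ((cone (K := K) f).π.app i.unop) y
    rw [← pc_comp, mapF_comp, hπ]
    rfl
  obtain ⟨c₀, hc₀⟩ := exists_descend f x hx cL fun τ => by
    let σ : K ≃ₐ[k] K := τ.liftNormal K
    have hσ : σ.toAlgHom.comp L.val = L.val.comp τ.toAlgHom :=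
      AlgHom.ext fun a => τ.liftNormal_commutes K a
    have h : pc (mapF f L.val) (pc (mapF f τ.toAlgHom) cL) = pc (mapF f L.val) cL := by
      rw [← pc_comp, mapF_comp, ← hσ, ← mapF_comp, pc_comp, hc, hfix]
    let j : ((Fin' k K)ᵒᵖ)ᵒᵖ := op (op (⟨L, inferInstance⟩ : Fin' k K))
    obtain ⟨m, g, g', hg⟩ := (Types.FilteredColimit.isColimit_eq_iff _ hcol
      (i := j) (j := j) (xi := pc (mapF f τ.toAlgHom) cL) (xj := cL)).1 (by
        refine Subtype.ext ?_
        rw [← hπ (op (⟨L, inferInstance⟩ : Fin' k K))] at h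
        exact congrArg Subtype.val h)
    haveI : FiniteDimensional k m.unop.unop.1 := m.unop.unop.2
    let incl' : L →ₐ[k] m.unop.unop.1 := IntermediateField.inclusion (leOfHom g.unop.unop)
    refine pc_injective_finite f x hx incl' ?_
    have hd : ∀ g'' : j ⟶ m, (diag (K := K) f).map g''.unop = mapF f incl' := fun g'' => by
      apply pullback.hom_ext
      · refine Eq.trans ?_ (mapF_fst f _).symm
        exact (pullback.lift_fst _ _ _).trans (Category.comp_id _)
      · refine Eq.trans ?_ (mapF_snd f _).symm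
        exact pullback.lift_snd _ _ _
    refine ((pc_congr (hd g) _).symm.trans ?_).trans (pc_congr (hd g') cL)
    exact Subtype.ext (congrArg Subtype.val hg)
  refine ⟨c₀, ?_⟩
  rw [← hc, ← hc₀, ← pc_comp, mapF_fst]

end Descent

end Groth.Agent.Lib.PicGal.Main
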